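import Groth.Agent.S13366
import Mathlib.FieldTheory.IsAlgClosed.Basic
import Mathlib.FieldTheory.Perfect
import Mathlib.RingTheory.Henselian
import Mathlib.RingTheory.LocalRing.ResidueField.Basic

/-!
# Additive `p`-semilinear maps on finite-dimensional spaces over algebraically closed fields
-/

set_option autoImplicit false

universe u

namespace Groth.Agent.FrobSemi

open Module

variable {k V : Type u} [Field k] [IsAlgClosed k] (p : ℕ) [Fact p.Prime] [CharP k p]
  [AddCommGroup V] [Module k V] [FiniteDimensional k V]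
  (F : V →+ V) (hF : ∀ (c : k) (v : V), F (c • v) = c ^ p • F v)

/-- The image of a subspace is a subspace, as `k` is perfect. -/
def img (W : Submodule k V) : Submodule k V where
  carrier := F '' (W : Set V)
  zero_mem' := ⟨0, W.zero_mem, map_zero F⟩
  add_mem' := by
    rintro _ _ ⟨a, ha, rfl⟩ ⟨b, hb, rfl⟩
    exact ⟨a + b, W.add_mem ha hb, map_add F a b⟩
  smul_mem' := by
    rintro c _ ⟨a, ha, rfl⟩
    obtain ⟨d, rfl⟩ := IsAlgClosed.exists_pow_nat_eq c (Fact.out : p.Prime).pos
    exact ⟨d • a, W.smul_mem d ha, hF d a⟩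

/-- The iterated images. -/
def chain : ℕ → Submodule k V
  | 0 => ⊤
  | n + 1 => img p F hF (chain n)

lemma iterate_mem_chain (v : V) : ∀ n, F^[n] v ∈ chain p F hF n
  | 0 => Submodule.mem_top
  | n + 1 => by
    rw [Function.iterate_succ_apply']
    exact ⟨_, iterate_mem_chain v n, rfl⟩

lemma chain_succ_le : ∀ n, chain p F hF (n + 1) ≤ chain p F hF n
  | 0 => le_top
  | n + 1 => Set.image_mono (f := F) (chain_succ_le n)

lemma exists_stable : ∃ n, img p F hF (chain p F hF n) = chain p F hF n := by
  by_contra h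
  push_neg at h
  have hlt : ∀ n, finrank k (chain p F hF (n + 1)) < finrank k (chain p F hF n) := fun n =>
    Submodule.finrank_lt_finrank_of_lt (lt_of_le_of_ne (chain_succ_le p F hF n) (h n))
  have hle : ∀ n, finrank k (chain p F hF n) + n ≤ finrank k V := by
    intro n
    induction n with
    | zero => simpa using Submodule.finrank_le _
    | succ n ih => have := hlt n; omega
  have := hle (finrank k V + 1)
  omega

include hF in
/-- The fixed vectors in terms of a subspace spanned by its image containing them all. -/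
theorem card_fixed (W : Submodule k V) (hFW : ∀ w ∈ W, F w ∈ W)
    (hW : W ≤ Submodule.span k (F '' (W : Set V))) (hfix : ∀ v, F v = v → v ∈ W) :
    (∀ x ∈ W, ∃ w ∈ W, F w - w = x) ∧ Nat.card {v : V | F v = v} = p ^ finrank k W := by
  let T : W →+ W :=
    { toFun := fun w => ⟨F w, hFW w w.2⟩
      map_zero' := Subtype.ext (map_zero F)
      map_add' := fun a b => Subtype.ext (map_add F a.1 b.1) }
  have hT : ∀ (c : k) (w : W), T (c • w) = c ^ p • T w := fun c w => Subtype.ext (hF c w.1)
  have hspan : Submodule.span k (Set.range T) = ⊤ := by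
    refine Submodule.map_injective_of_injective W.subtype_injective (le_antisymm ?_ ?_)
    · exact Submodule.map_mono le_top
    · rw [Submodule.map_top, Submodule.range_subtype, Submodule.map_span]
      refine hW.trans (Submodule.span_mono ?_)
      rintro _ ⟨a, ha, rfl⟩
      exact ⟨T ⟨a, ha⟩, ⟨_, rfl⟩, rfl⟩
  have : IsAlgClosed (IsLocalRing.ResidueField k) := IsAlgClosed.of_ringEquiv k _
    (RingEquiv.ofBijective (IsLocalRing.residue k)
      ⟨(IsLocalRing.residue k).injective, IsLocalRing.residue_surjective⟩)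
  obtain ⟨hs, hc⟩ := Groth.Agent.S13366.result p (R := k) T hT hspan
  let e : {w : W // T w = w} ≃ {v : V | F v = v} :=
    { toFun := fun w => ⟨w.1.1, congrArg Subtype.val w.2⟩
      invFun := fun v => ⟨⟨v.1, hfix v.1 v.2⟩, Subtype.ext v.2⟩
      left_inv := fun w => rfl
      right_inv := fun v => rfl }
  refine ⟨fun x hx => ?_, by rw [← Nat.card_congr e, hc]⟩
  obtain ⟨w, hw⟩ := hs ⟨x, hx⟩
  exact ⟨w.1, w.2, congrArg Subtype.val hw⟩

include hF in
/-- There is a subspace spanned by its image which absorbs all the vectors under iteration. -/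
theorem exists_core : ∃ (W : Submodule k V) (n : ℕ), (∀ v, F^[n] v ∈ W) ∧ (∀ w ∈ W, F w ∈ W) ∧
    W ≤ Submodule.span k (F '' (W : Set V)) ∧ (∀ v, F v = v → v ∈ W) := by
  obtain ⟨n, hn⟩ := exists_stable p F hF
  refine ⟨chain p F hF n, n, fun v => iterate_mem_chain p F hF v n,
    fun w hw => (SetLike.ext_iff.1 hn _).1 ⟨w, hw, rfl⟩,
    fun w hw => Submodule.subset_span ((SetLike.ext_iff.1 hn w).2 hw), fun v hv => ?_⟩
  rw [← Function.iterate_fixed hv n]
  exact iterate_mem_chain p F hF v n

include hF in
/-- Semilinear `F` splits into a bijective part and a nilpotent part. -/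
theorem main : Function.Surjective (fun v => F v - v) ∧ Set.Finite {v : V | F v = v} ∧
    Nat.card {v : V | F v = v} ≤ p ^ finrank k V := by
  obtain ⟨W, n, hn, hFW, hW, hfix⟩ := exists_core p F hF
  obtain ⟨hs, hc⟩ := card_fixed p F hF W hFW hW hfix
  refine ⟨?_, ?_, ?_⟩
  · intro v
    have key : ∀ m, ∃ u, F u - u = v - F^[m] v := by
      intro m
      induction m with
      | zero => exact ⟨0, by simp⟩
      | succ m ih =>
        obtain ⟨u, hu⟩ := ih
        refine ⟨u - F^[m] v, ?_⟩
        rw [map_sub, Function.iterate_succ_apply']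
        calc F u - F (F^[m] v) - (u - F^[m] v) = (F u - u) + (F^[m] v - F (F^[m] v)) := by abel
          _ = v - F (F^[m] v) := by rw [hu]; abel
    obtain ⟨u, hu⟩ := key n
    obtain ⟨w, -, hw⟩ := hs _ (hn v)
    refine ⟨u + w, ?_⟩
    change F (u + w) - (u + w) = v
    rw [map_add, add_sub_add_comm, hu, hw]
    abel
  · have : Finite {v : V | F v = v} := Nat.finite_of_card_ne_zero
      (by rw [hc]; exact pow_ne_zero _ (Fact.out : p.Prime).ne_zero)
    exact Set.toFinite _
  · rw [hc]
    exact Nat.pow_le_pow_right (Fact.out : p.Prime).pos (Submodule.finrank_le W)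

end Groth.Agent.FrobSemi
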